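import Groth.Agent.Sga3C.LocConn
import Mathlib.AlgebraicGeometry.Noetherian
import Mathlib.AlgebraicGeometry.Morphisms.Etale
import Mathlib.AlgebraicGeometry.Morphisms.Finite
import Mathlib.AlgebraicGeometry.Morphisms.ClosedImmersion
import Mathlib.AlgebraicGeometry.Morphisms.FinitePresentation
import Mathlib.AlgebraicGeometry.Morphisms.UniversallyOpen
import Mathlib.AlgebraicGeometry.Morphisms.FlatDescent

/-!
# Connected finite étale covers over which a morphism lifts (helper442)

`exists_conn_cover`: for `ν : J' ⟶ J` finite étale surjective and `j : X ⟶ J` with `X` connected and locally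
Noetherian there are a connected finite étale surjective `π : Y ⟶ X` and `j' : Y ⟶ J'` with `j' ≫ ν = π ≫ j`.
-/

set_option autoImplicit false
universe u
open CategoryTheory CategoryTheory.Limits AlgebraicGeometry TopologicalSpace

namespace K442.BMCov

theorem surjective_of_finite_etale {W D : Scheme.{u}} [ConnectedSpace D] [Nonempty W] (f : W ⟶ D) [IsFinite f]
    [Etale f] : Surjective f := by
  have h1 : IsClopen (Set.range f) := ⟨f.isClosedMap.isClosed_range, f.isOpenMap.isOpen_range⟩
  exact ⟨Set.range_eq_univ.1 (h1.eq_univ (Set.range_nonempty _))⟩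

theorem exists_conn_cover {X J J' : Scheme.{u}} (ν : J' ⟶ J) [IsFinite ν] [Etale ν] [Surjective ν] (j : X ⟶ J)
    [IsLocallyNoetherian X] [ConnectedSpace X] :
    ∃ (Y : Scheme.{u}) (π : Y ⟶ X) (j' : Y ⟶ J'), IsFinite π ∧ Etale π ∧ Surjective π ∧ ConnectedSpace Y ∧
      j' ≫ ν = π ≫ j := by
  let P : Scheme.{u} := pullback ν j
  let p : P ⟶ X := pullback.snd ν j
  have hP : IsLocallyNoetherian P := LocallyOfFiniteType.isLocallyNoetherian p
  obtain ⟨x⟩ : Nonempty X := inferInstance
  obtain ⟨y, hy⟩ := p.surjective x
  have hlc : LocallyConnectedSpace P := Groth.Agent.Sga3C.LocConn.locallyConnectedSpace_of_isLocallyNoetherian P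
  let W : P.Opens := ⟨connectedComponent y, isOpen_connectedComponent⟩
  have hWc : ConnectedSpace W := isConnected_iff_connectedSpace.1 isConnected_connectedComponent
  have hcl : IsClosedImmersion W.ι := by
    refine IsClosedImmersion.of_isPreimmersion W.ι ?_
    rw [Scheme.Opens.range_ι]
    exact isClosed_connectedComponent
  have hf : IsFinite (W.ι ≫ p) := inferInstance
  have he : Etale (W.ι ≫ p) := inferInstance
  refine ⟨W, W.ι ≫ p, W.ι ≫ pullback.fst ν j, hf, he, surjective_of_finite_etale _, hWc, ?_⟩
  rw [Category.assoc, Category.assoc, pullback.condition]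

end K442.BMCov
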