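import Groth.Agent.BunMod.K442.SumSS
import Groth.Agent.BunMod.K442.Cov
import Groth.Agent.S7640
import Groth.Agent.PerfC.FlatExact
import Groth.Agent.Vancyc.H878.Triv
import Groth.Agent.Sga3C.DimTop
import Groth.Agent.VBCurve.K708.Geom
import Mathlib.AlgebraicGeometry.Morphisms.QuasiFinite
import Mathlib.AlgebraicGeometry.Morphisms.Finite

/-!
# Degrees and semistability along a finite flat cover of curves (helper442)

* `exists_deg`: degrees are multiplied by a positive integer under the pull-back along a finite flat surjective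
  morphism of integral proper curves;
* `isSlopeSemistable`: if `π^* E ≅ M^{⊕ n}` with `M` invertible then `E` is slope-semistable, and
  `d · deg E = n · deg M`.
-/

set_option autoImplicit false
universe u

open CategoryTheory CategoryTheory.Limits AlgebraicGeometry TopologicalSpace

namespace K442.CovSS

open Groth.Agent.VarietyA.DegRank K707.Base K707.Deg K707.Slope K707.Semi

/-- Residue field extensions of locally quasi-finite morphisms are finite. -/
theorem residueFieldMap_finite {X Y : Scheme.{u}} (f : X ⟶ Y) [LocallyQuasiFinite f] (x : X) :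
    (f.residueFieldMap x).hom.Finite := by
  have h1 : (f.stalkMap x).hom.QuasiFinite := f.quasiFiniteAt x
  have h2 : (X.residue x).hom.QuasiFinite :=
    RingHom.QuasiFinite.of_finite (RingHom.Finite.of_surjective _ (X.residue_surjective _))
  have h3 := h2.comp h1
  rw [← CommRingCat.hom_comp, ← Scheme.residue_residueFieldMap, CommRingCat.hom_comp] at h3
  have h4 : (f.residueFieldMap x).hom.QuasiFinite := RingHom.QuasiFinite.of_comp h3
  let i : Algebra (Y.residueField (f x)) (X.residueField x) := (f.residueFieldMap x).hom.toAlgebra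
  have : Algebra.QuasiFinite (Y.residueField (f x)) (X.residueField x) := h4
  exact (Module.Finite.of_quasiFinite :
    Module.Finite (Y.residueField (f x)) (X.residueField x))

/-- The residue degree is positive. -/
theorem residueDegree_pos {X Y : Scheme.{u}} (f : X ⟶ Y) [LocallyQuasiFinite f] (x : X) :
    0 < f.residueDegree x := by
  unfold Scheme.Hom.residueDegree
  let _ := (f.residueFieldMap x).hom.toAlgebra
  have h1 : Module.Finite (Y.residueField (f x)) (X.residueField x) := residueFieldMap_finite f x
  exact Module.finrank_pos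

theorem map_genericPoint {X Y : Scheme.{u}} [IrreducibleSpace X] [IrreducibleSpace Y] (f : X ⟶ Y)
    [Surjective f] : f (genericPoint X) = genericPoint Y := by
  obtain ⟨x, hx⟩ := f.surjective (genericPoint Y)
  have h1 : f (genericPoint X) ⤳ genericPoint Y := by
    rw [← hx]
    exact (genericPoint_specializes x).map f.continuous
  exact (h1.antisymm (genericPoint_specializes _)).eq

variable {k : Type u} [Field k] {X : Scheme.{u}} [X.Over (Spec (CommRingCat.of k))]
  [IsIntegral X] [IsProper (X ↘ (Spec (CommRingCat.of k)))]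
  {Y : Scheme.{u}} [Y.Over (Spec (CommRingCat.of k))]
  [IsIntegral Y] [IsProper (Y ↘ (Spec (CommRingCat.of k)))]
  (hX : topologicalKrullDim X = 1) (hY : topologicalKrullDim Y = 1)
  (π : Y ⟶ X) (hπ : π ≫ (X ↘ (Spec (CommRingCat.of k))) = Y ↘ (Spec (CommRingCat.of k)))
  [IsFinite π] [Surjective π]

include hX hY hπ

/-- Degrees are multiplied by a positive integer. -/
theorem exists_deg : ∃ d : ℕ, 0 < d ∧ ∀ (r : ℕ) (F : X.Modules), FlatMod.IsFinLocFreeOfRank r F →
    Curv2.deg k Y ((Scheme.Modules.pullback π).obj F) r = (d : ℤ) * Curv2.deg k X F r :=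
  ⟨π.residueDegree (genericPoint Y), residueDegree_pos π _, fun r F hF =>
    Groth.Agent.S7640.result k Y X hY hX π hπ (map_genericPoint π) r F hF⟩

variable [Flat π] {E : X.Modules} {n : ℕ} (hE : FlatMod.IsFinLocFreeOfRank n E) {M : Y.Modules}
  (hM : PicF.IsInvertible M) (e : (Scheme.Modules.pullback π).obj E ≅ ∐ fun _ : Fin n => M)
  (hCX : Crv k X) (hCY : Crv k Y)

omit [Surjective π] hX hY hπ [IsFinite π] [Flat π] [IsIntegral X] [IsProper (X ↘ (Spec (CommRingCat.of k)))]
  [X.Over (Spec (CommRingCat.of k))] in
include hE hM e hCY in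
theorem deg_pull : Curv2.deg k Y ((Scheme.Modules.pullback π).obj E) n = n * Curv2.deg k Y M 1 := by
  have h1 := Groth.Agent.Vancyc.H878.Triv.isFinLocFreeOfRank_pullback π hE
  rw [← dg_of_rank k h1, dg_iso k e, (SumSS.ss_sum hCY hM n).2.2.1]

include hE hM e hCY in
/-- A bundle that becomes a sum of copies of one line bundle is semistable. -/
theorem isSlopeSemistable : ModFun.IsSlopeSemistable k X E n := by
  obtain ⟨d, hd, hdeg⟩ := exists_deg hX hY π hπ
  intro F r i hi _ hF
  have h1 := Groth.Agent.Vancyc.H878.Triv.isFinLocFreeOfRank_pullback π hF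
  have h2 : Mono ((Scheme.Modules.pullback π).map i) := Groth.Agent.PerfC.FlatExact.mono_pullback_map π i
  obtain ⟨-, s1, s2, s3⟩ := SumSS.ss_sum hCY hM n
  have h3 := s3 _ ((Scheme.Modules.pullback π).map i ≫ e.hom) (mono_comp _ _)
    (K707.Base.isFinLocFree_of_rank h1)
  have h4 := deg_pull π hE hM e hCY
  rw [hdeg n E hE] at h4
  rw [s1, s2, dg_of_rank k h1, hdeg r F hF, rk_of_rank h1, ← h4] at h3
  have hd' : (0 : ℤ) < d := by exact_mod_cast hd
  refine le_of_mul_le_mul_left ?_ hd'
  calc (d : ℤ) * (Curv2.deg k X F r * n) = d * Curv2.deg k X F r * n := by ring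
    _ ≤ d * Curv2.deg k X E n * r := h3
    _ = d * (Curv2.deg k X E n * r) := by ring

end K442.CovSS
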