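import Groth.Agent.JacVar.K533.ThetaLam
import Groth.Agent.JacVar.K532.ThetaAmple
import Groth.Agent.JacVar.K531.ThetaLoc
import Groth.Agent.PicF.K247.DegFn

/-!
# The degree of the theta line bundle on the curve (helper442)

* `isDeg_theta`: the theta line bundle pulled back along `X × J ⟶ J`, `(x, z) ↦ α(x) z`, has degree `g` on the fibres;
* `deg_pull_theta`: `deg j^* Θ_N = g` for every Abel map `j` of degree zero.
-/

set_option autoImplicit false
set_option backward.isDefEq.respectTransparency false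
set_option linter.unusedSectionVars false
universe u
open CategoryTheory CategoryTheory.Limits AlgebraicGeometry Opposite TopologicalSpace MonObj MonoidalCategory
  CartesianMonoidalCategory

namespace K442.ThetaDeg

open Groth.Agent Groth.Agent.Grpsch Groth.Agent.Grpsch.PicGrp Groth.Agent.Fga.RigGrp Groth.Agent.Fga.JacSum
open Groth.Agent.Fga.JacAlg Groth.Agent.Picfga.ChiDef Groth.Agent.Fga.JacSurj Groth.Agent.Fdesc.LocGen
open Groth.Agent.Picfga.P1Def Groth.Agent.Picfga.LatH0 Groth.Agent.Picfga.PicGood Groth.Agent.Picfga.SecGraph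
open Groth.Agent.Sga7.H732 Groth.Agent.Sga7.H732.Hedge Groth.Agent.Grpsch.Cube K521.Lam
open K914.Curve K914.Cls K914.Points K914.HField K914.Semi K914.Fine K914.PtDrop K533.Cst K533.ThetaFam
open K533.ThetaLocus K531.Perm K531.Albanese K533.ThetaW K533.ThetaLam

theorem dim_fiber {k : Type u} [Field k] {X : Scheme.{u}} (f : X ⟶ Spec (CommRingCat.of k))
    (s : Spec (CommRingCat.of k)) : topologicalKrullDim ↥(f.fiber s) = topologicalKrullDim X := by
  have h1 : f ⁻¹' {s} = Set.univ := Set.eq_univ_of_forall fun x => Subsingleton.elim (α := PrimeSpectrum k) _ _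
  have e : f.fiber s ≃ₜ X := (f.fiberHomeo s).trans ((Homeomorph.setCongr h1).trans (Homeomorph.Set.univ X))
  exact e.isHomeomorph.topologicalKrullDim_eq

section gen

variable {k : Type u} [Field k] {X : Scheme.{u}} {f : X ⟶ Spec (CommRingCat.of k)}
  [IsProper f] [Smooth f] [GeometricallyConnected f] [SmoothOfRelativeDimension 1 f]
  {σ : Spec (CommRingCat.of k) ⟶ X} {hσ : σ ≫ f = 𝟙 (Spec (CommRingCat.of k))}
  {J : Over (Spec (CommRingCat.of k))} [GrpObj J] {ξ : Pic (PicF.XT f J)} (h : IsJac f σ hσ J ξ)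
  [IsCommMonObj J] [IsProper J.hom] [GeometricallyIntegral J.hom]
  {ψ : (ModFun.PicDeg f 0).Hom ⊤ J} (hψ : CompatCl f σ hσ ψ ξ)
  {α : Over.mk f ⟶ J} (hα : ∀ (T : Over (Spec (CommRingCat.of k))) (z : Pt f T),
      Abel.cls h T (Abel.ptHom z ≫ α) = acl f σ hσ z)
  {N : X.Modules} (hN : PicF.IsInvertible N) {n : ℕ} (hn : chiK f (𝟙 (Spec (CommRingCat.of k))) 1 + n = 1)
  (hNd : dK f (𝟙 (Spec (CommRingCat.of k))) (cst f (Over.mk (𝟙 _)) (mk N hN)) = n - 1)
  {ΘL : J.left.Modules} (hΘ : Jac.IsThetaLB f 0 ψ N ΘL)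

/-- Pull back of `(x, z) ↦ α(x) y(z)` along `X × Z' ⟶ X × Z`. -/
theorem pull_hh (α : Over.mk f ⟶ J) {T T' : Over (Spec (CommRingCat.of k))} (g : T' ⟶ T) (y : T ⟶ J)
    (c : Pic J.left) :
    pull (PicF.XTmap f g) (pull (hh α y).left c) = pull (hh α (g ≫ y)).left c := by
  obtain ⟨m, hm, h1, h2⟩ := exists_map (f := f) g
  have h3 : m ≫ hh α y = hh α (g ≫ y) := by
    have ha : m ≫ Abel.ptHom (xx f T) = Abel.ptHom (xx f T') := congrArg Abel.ptHom h2
    change m ≫ ((Abel.ptHom (xx f T) ≫ α) * (prZ f T ≫ y)) = (Abel.ptHom (xx f T') ≫ α) * (prZ f T' ≫ g ≫ y)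
    rw [MonObj.comp_mul, ← Category.assoc m, ← Category.assoc m, ha, h1, Category.assoc]
  rw [← hm]
  refine (pull_comp m.left (hh α y).left c).symm.trans ?_
  have h4 : m.left ≫ (hh α y).left = (hh α (g ≫ y)).left := congrArg (fun q => Over.Hom.left q) h3
  rw [h4]

include hψ hα hn hNd in
/-- The theta line bundle pulled back along `(x, z) ↦ α(x) z` has degree `g` on the fibres. -/
theorem isDeg_theta (hdim : topologicalKrullDim X = 1) :
    IsDeg f n (T := J) (pull (hh α (𝟙 J)).left (mk ΘL hΘ.1)) := by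
  have hX : Curve.IsSmoothProperCurve k X f := K532.Base.isSmoothProperCurve f hdim
  have hGI : GeometricallyIntegral f := K532.Base.geometricallyIntegral f
  have hn' : ∀ (K : Type u) [Field K] (t : Spec (CommRingCat.of K) ⟶ Spec (CommRingCat.of k)),
      chiK f t 1 + n = 1 := by
    intro K _ t
    have h8 := chiK_pull f (toPt t) 1
    rw [map_one] at h8
    rw [h8, hn]
  obtain ⟨P⟩ := Picfga.CurveP1.exists_p1Data hX
  obtain ⟨Z₀, x, hZ₀, _, _, _, _⟩ := K531.PowGeom.exists_pow f n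
  obtain ⟨W, ⟨z₀, hz₀⟩, hWg, hWd⟩ := K531.GoodPt.exists_open hdim P σ hσ n hn' hZ₀
  let Z : Over (Spec (CommRingCat.of k)) := K533.ThetaComap.opn Z₀ W
  let io : Z ⟶ Z₀ := K533.ThetaComap.opnι Z₀ W
  let w : Fin n → Pt f Z := fun i => (x i).comp io
  have hZr : IsReduced Z.left := inferInstanceAs (IsReduced W.toScheme)
  have hgood : ∀ z : Z.left, GoodCl P Z (∏ i, gcl f (w i))⁻¹ z := by
    intro z
    have h1 := (goodCl_pull_iff P io (∏ i, gcl f (x i))⁻¹ z).2 (hWg _ z.2)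
    rw [map_inv, map_prod] at h1
    have h2 : ∏ i, pull (PicF.XTmap f io) (gcl f (x i)) = ∏ i, gcl f (w i) :=
      Finset.prod_congr rfl fun i _ => pull_gcl f (x i) io
    rwa [h2] at h1
  have hdist : ∀ z : Z.left, Dist f w z := fun z => (dist_comp_iff f io x z).2 (hWd _ z.2)
  obtain ⟨y, hy, -⟩ := h.univ Z (norm f σ hσ Z (yc hσ (mk N hN) w)) (norm_mem f σ hσ _ _)
    (deg_iff.2 (isDeg_norm (isDeg_yc w hn hNd)))
  have hy' : Abel.cls h Z y = norm f σ hσ Z (yc hσ (mk N hN) w) := hy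
  have key := pull_theta h hψ hα hN hn w hy' P hdist hgood hΘ
  have e1 : IsDeg f n (T := Z) (pull (hh α y).left (mk ΘL hΘ.1)) := by
    have h1 := (isDeg_prod_gcl w).inv
    exact h1.congr (neg_neg _) key.symm
  have e2 : pull (PicF.XTmap f y) (pull (hh α (𝟙 J)).left (mk ΘL hΘ.1)) = pull (hh α y).left (mk ΘL hΘ.1) := by
    have h1 := pull_hh α y (𝟙 J) (mk ΘL hΘ.1)
    rwa [Category.comp_id] at h1
  -- local constancy
  have hdim' : ∀ s : Spec (CommRingCat.of k), topologicalKrullDim ↥(f.fiber s) = 1 :=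
    fun s => (dim_fiber f s).trans hdim
  have hlc := K247.DegFn.isLocallyConstant_degAt f hdim' J (pull (hh α (𝟙 J)).left (mk ΘL hΘ.1))
  have hJi : IsIntegral J.left := GeometricallyIntegral.isIntegral_of_subsingleton J.hom
  intro τ
  let z₁ : Z.left := ⟨z₀, hz₀⟩
  have h1 := hlc.apply_eq_of_preconnectedSpace τ (y.left z₁)
  have h2 := e1 z₁
  rw [← e2, chiAt_pull (Fga.JacFib.bcStep f)] at h2
  have h3 := chiAt_pull (Fga.JacFib.bcStep f) y z₁ 1
  rw [map_one] at h3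
  rw [h3] at h2
  unfold K247.DegFn.degAt at h1
  linarith

omit [IsProper J.hom] [GeometricallyIntegral J.hom] in
include hψ hα in
/-- Every Abel map is a translate of the one with base point `σ`. -/
theorem exists_transl {j : Over.mk f ⟶ J} (hj : Jac.IsAbelJacobi f 0 ψ j) :
    ∃ b : 𝟙_ (Over (Spec (CommRingCat.of k))) ⟶ J, j = α * (toUnit _ ≫ b) := by
  obtain ⟨hP, L, hL, ⟨hLi, M, hM, ⟨e⟩⟩, rfl⟩ := hj
  have h1 : mk L hLi * gcl f (Abel.idPt (f := f)) = cst f (Over.mk f) (mk M hM) := by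
    have h2 : gcl f (Abel.idPt (f := f)) = mk (ClSub.idealMod (pullback.diagonal f).ker)
        (Dix.IdealModCartier.isInvertible_idealMod (isEff_secGraph f (Abel.idPt (f := f)))) := rfl
    rw [h2, mk_mul_mk, cst]
    exact (mk_congr e).trans (pull_mk (pullback.fst f f) hM).symm
  have h2 : Abel.cls h (Over.mk f) (ψ.app (Over.mk f) L hP hL) = norm f σ hσ (Over.mk f) (mk L hLi) := by
    rw [Abel.cls_apply, app_eq' ψ hP hL, hψ]
  have h3 : Abel.cls h (Over.mk f) α =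
      norm f σ hσ (Over.mk f) ((gcl f (Abel.idPt (f := f)))⁻¹ * gcl f (Pt.ofSection hσ (Over.mk f))) := by
    have h4 := hα (Over.mk f) (Abel.idPt (f := f))
    have h5 : Abel.ptHom (Abel.idPt (f := f)) = 𝟙 (Over.mk f) := rfl
    rw [h5, Category.id_comp] at h4
    exact h4
  have hx : Nonempty X := ⟨σ (IsLocalRing.closedPoint k)⟩
  obtain ⟨x⟩ := hx
  obtain ⟨b, hb⟩ := exists_const h (Z := Over.mk f) x
    (cst f _ (mk M hM) * (gcl f (Pt.ofSection hσ _))⁻¹) (ψ.app (Over.mk f) L hP hL * α⁻¹) (by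
      rw [map_mul, map_inv, h2, h3, ← map_inv, ← map_mul, map_mul (pull _), pull_cst, map_inv, pull_gcl,
        Pt.ofSection_comp, ← h1]
      congr 1
      generalize gcl f (Abel.idPt (f := f)) = a
      generalize mk L hLi = l
      generalize gcl f (Pt.ofSection hσ (Over.mk f)) = s
      apply Additive.ofMul.injective
      simp only [ofMul_mul, ofMul_inv]
      abel)
  refine ⟨b, ?_⟩
  rw [← hb, mul_comm, inv_mul_cancel_right]

include hψ hα hn hNd in
/-- The degree of the theta line bundle along an Abel map. -/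
theorem isDeg_j (hdim : topologicalKrullDim X = 1) {j : Over.mk f ⟶ J} (hj : Jac.IsAbelJacobi f 0 ψ j) :
    chiK f (𝟙 _) (pull (pullback.fst f (𝟙 _)) (pull j.left (mk ΘL hΘ.1))) = chiK f (𝟙 _) 1 + n := by
  obtain ⟨b, hb⟩ := exists_transl h hψ hα hj
  have h1 := (isDeg_theta h hψ hα hN hn hNd hΘ hdim).pull b
  rw [pull_hh, Category.comp_id] at h1
  have h2 : hh α b = Abel.ptHom (xx f (𝟙_ _)) ≫ j := by
    have hu : prZ f (𝟙_ _) = Abel.ptHom (xx f (𝟙_ _)) ≫ toUnit (Over.mk f) := toUnit_unique _ _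
    change (Abel.ptHom (xx f (𝟙_ _)) ≫ α) * (prZ f (𝟙_ _) ≫ b) = Abel.ptHom (xx f (𝟙_ _)) ≫ j
    rw [hb, MonObj.comp_mul, ← Category.assoc _ (toUnit (Over.mk f)) b, ← hu]
  have h3 : pull (hh α b).left (mk ΘL hΘ.1) =
      pull (pullback.fst f (𝟙_ (Over (Spec (CommRingCat.of k)))).hom) (pull j.left (mk ΘL hΘ.1)) := by
    rw [h2]
    exact pull_comp (pullback.fst f (𝟙_ (Over (Spec (CommRingCat.of k)))).hom) j.left (mk ΘL hΘ.1)
  rw [h3] at h1
  exact (isDeg_iff_chiK (𝟙 (Spec (CommRingCat.of k))) _).1 h1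

end gen

section frozen

open K532.ThetaAmple

variable {k : Type u} [Field k] [IsAlgClosed k] {X : Scheme.{u}} [X.Over (Spec (CommRingCat.of k))]
    [IsProper (X ↘ Spec (CommRingCat.of k))] [Smooth (X ↘ Spec (CommRingCat.of k))]
    [GeometricallyConnected (X ↘ Spec (CommRingCat.of k))] (hdim : topologicalKrullDim ↥X = 1)
    {g : ℕ} (hg : Curv2.genus k X = g) {N : X.Modules} (hN : PicF.IsInvertible N)
    (hNdeg : Curv2.deg k X N 1 = (g : ℤ) - 1)
    {J : Over (Spec (CommRingCat.of k))} [GrpObj J] [IsCommMonObj J]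
    {ψ : (ModFun.PicDeg (X ↘ Spec (CommRingCat.of k)) 0).Hom ⊤ J}
    (hJ : Jac.IsJacobian (X ↘ Spec (CommRingCat.of k)) ⊤ J ψ)
    {ΘJ : J.left.Modules} (hΘJ : Jac.IsThetaLB (X ↘ Spec (CommRingCat.of k)) 0 ψ N ΘJ)
    {j : Over.mk (X ↘ Spec (CommRingCat.of k)) ⟶ J} (hj : Jac.IsAbelJacobi (X ↘ Spec (CommRingCat.of k)) 0 ψ j)

include hdim hg hN hNdeg hJ hΘJ hj in
/-- **`deg j^* Θ_N = g`.** -/
theorem deg_pull_theta : Curv2.deg k X ((Scheme.Modules.pullback j.left).obj ΘJ) 1 = g := by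
  obtain ⟨hX, hp, hgi, hs, σ, hσ, ξ, h, α, hα, hψ, -⟩ := exists_setup hdim hJ
  have hn : chiK (X ↘ Spec (CommRingCat.of k)) (𝟙 (Spec (CommRingCat.of k))) 1 + g = 1 := by
    rw [chiK_one, hg]; ring
  have hNd : dK (X ↘ Spec (CommRingCat.of k)) (𝟙 (Spec (CommRingCat.of k)))
      (cst (X ↘ Spec (CommRingCat.of k)) (Over.mk (𝟙 _)) (mk N hN)) = g - 1 := by
    rw [← hNdeg, ← K532.CurvePic.deg_mk k X hdim hN]
    exact K531.ThetaLoc.chiK_pull_fst (C := X) (𝟙 _) (mk N hN)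
  have h1 := isDeg_j h (compatCl_of_compat hψ) hα hN hn hNd hΘJ hdim hj
  have h2 := K531.ThetaLoc.chiK_pull_fst (C := X) (𝟙 (Spec (CommRingCat.of k))) (pull j.left (mk ΘJ hΘJ.1))
  rw [h1, pull_mk, K532.CurvePic.deg_mk k X hdim] at h2
  rw [← h2]
  ring

end frozen

end K442.ThetaDeg
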