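import Groth.Agent.BunMod.K442.Cov
import Groth.Agent.BunMod.K442.CovSS
import Groth.Agent.BunMod.K442.ThetaDeg
import Groth.Agent.BunMod.K596.Iface
import Groth.Agent.Grpsch.MulFin
import Groth.Agent.Grpsch.AbEtale
import Groth.Agent.S0353

/-!
# Restriction to the curve of a bundle on the Jacobian that becomes `(Θ^a)^{⊕ n}` after `[m]^*` (helper442)

`main`: `F` finite locally free of rank `n` on `J`, `[m]^* F ≅ (Θ^a)^{⊕ n}`, `Θ` symmetric, `j : X ⟶ J` an Abel map: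
`j^* F` is finite locally free of rank `n`, slope-semistable, and `deg j^* F · m² = n a g`.
-/

set_option autoImplicit false
universe u
open CategoryTheory CategoryTheory.Limits AlgebraicGeometry MonoidalCategory CartesianMonoidalCategory MonObj

namespace K442.Curve

open Groth.Agent Groth.Agent.Grpsch.PicGrp Groth.Agent.Grpsch.Cube K532.CurvePic K707.Base

variable {k : Type u} [Field k] [IsAlgClosed k] [CharZero k] {X : Scheme.{u}} [X.Over (Spec (CommRingCat.of k))]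
    [IsProper (X ↘ Spec (CommRingCat.of k))] [Smooth (X ↘ Spec (CommRingCat.of k))]
    [GeometricallyConnected (X ↘ Spec (CommRingCat.of k))] (hdim : topologicalKrullDim ↥X = 1)
    {g : ℕ} (hg : Curv2.genus k X = g) {N : X.Modules} (hN : PicF.IsInvertible N)
    (hNdeg : Curv2.deg k X N 1 = (g : ℤ) - 1)
    {J : Over (Spec (CommRingCat.of k))} [GrpObj J] [IsCommMonObj J]
    {ψ : (ModFun.PicDeg (X ↘ Spec (CommRingCat.of k)) 0).Hom ⊤ J}
    (hJ : Jac.IsJacobian (X ↘ Spec (CommRingCat.of k)) ⊤ J ψ)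
    {ΘJ : J.left.Modules} (hΘJ : Jac.IsThetaLB (X ↘ Spec (CommRingCat.of k)) 0 ψ N ΘJ)
    (hsym : Groth.Agent.BunMod.K596.Sym J ΘJ)
    {j : Over.mk (X ↘ Spec (CommRingCat.of k)) ⟶ J} (hj : Jac.IsAbelJacobi (X ↘ Spec (CommRingCat.of k)) 0 ψ j)
    {F : J.left.Modules} {n : ℕ} (hF : FlatMod.IsFinLocFreeOfRank n F) {m a : ℕ} (hm : 1 ≤ m)
    (e : Nonempty ((Scheme.Modules.pullback ((𝟙 J) ^ m : J ⟶ J).left).obj F ≅
      ∐ fun _ : Fin n => CohB1.tensorPow ΘJ a))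

section main

include hdim hg hN hNdeg hJ hΘJ hsym hj hF hm e

/-- **The restriction to the curve.** -/
theorem main : FlatMod.IsFinLocFreeOfRank n ((Scheme.Modules.pullback j.left).obj F) ∧
    ModFun.IsSlopeSemistable k X ((Scheme.Modules.pullback j.left).obj F) n ∧
    Curv2.deg k X ((Scheme.Modules.pullback j.left).obj F) n * (m : ℤ) ^ 2 = (n : ℤ) * a * g := by
  have hFj := Groth.Agent.Vancyc.H878.Triv.isFinLocFreeOfRank_pullback j.left hF
  refine ⟨hFj, ?_⟩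
  obtain ⟨-, hp, hgi, -⟩ := K532.ThetaAmple.exists_setup hdim hJ
  have hsm : Smooth J.hom := Groth.Agent.S0353.result k J
  have hint : IsIntegral X := K705.Setup.isIntegral_of_geomConn k X
  have hXN : IsLocallyNoetherian X := LocallyOfFiniteType.isLocallyNoetherian (X ↘ Spec (CommRingCat.of k))
  have hXc : ConnectedSpace X :=
    GeometricallyConnected.connectedSpace_of_subsingleton (f := X ↘ Spec (CommRingCat.of k))
  -- the isogeny
  have hν1 : IsFinite ((𝟙 J) ^ m : J ⟶ J).left := Grpsch.MulFin.isFinite_pow J m hm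
  have hν2 : Surjective ((𝟙 J) ^ m : J ⟶ J).left := Grpsch.MulFin.surjective_pow J m hm
  have hν3 : Etale ((𝟙 J) ^ m : J ⟶ J).left := by
    have h1 := Grpsch.AbEtale.etale_zpow_of_isAlgClosed (A := J) (d := (m : ℤ)) (by
      have : (m : k) ≠ 0 := Nat.cast_ne_zero.2 (by omega)
      exact_mod_cast this)
    rwa [zpow_natCast] at h1
  obtain ⟨Y, π, j', hπ1, hπ2, hπ3, hYc, hcomm⟩ := BMCov.exists_conn_cover (X := X) ((𝟙 J) ^ m : J ⟶ J).left j.left
  -- the curve `Y`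
  let _ : Y.Over (Spec (CommRingCat.of k)) := ⟨π ≫ (X ↘ Spec (CommRingCat.of k))⟩
  have hπk : π ≫ (X ↘ Spec (CommRingCat.of k)) = Y ↘ Spec (CommRingCat.of k) := rfl
  have hYp : IsProper (Y ↘ Spec (CommRingCat.of k)) := by rw [← hπk]; infer_instance
  have hYs : Smooth (Y ↘ Spec (CommRingCat.of k)) := by rw [← hπk]; infer_instance
  have hYi : IsIntegral Y := K708.Geom.isIntegral_of_connected (Y ↘ Spec (CommRingCat.of k))
  have hYd : topologicalKrullDim Y = 1 :=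
    (Sga3C.DimTop.topologicalKrullDim_eq_of_isIntegralHom π).trans hdim
  have CY : Crv k Y := Crv.of_smooth hYd
  have hYcrv : IsCurve k Y := isCurve_of_isAlgClosed k Y ⟨hYp, hYs, hYi, hYd⟩
  -- the isomorphism on `Y`
  let M : Y.Modules := (Scheme.Modules.pullback j').obj (CohB1.tensorPow ΘJ a)
  have hMΘ : PicF.IsInvertible (CohB1.tensorPow ΘJ a) := Fdesc.LocGen.isInvertible_tensorPow hΘJ.1 a
  have hM : PicF.IsInvertible M := Fdesc.LocGen.isInvertible_pullback j' hMΘ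
  obtain ⟨e⟩ := e
  have eY : (Scheme.Modules.pullback π).obj ((Scheme.Modules.pullback j.left).obj F) ≅ ∐ fun _ : Fin n => M :=
    (Scheme.Modules.pullbackComp π j.left).app F ≪≫
      (Scheme.Modules.pullbackCongr hcomm.symm).app F ≪≫
      ((Scheme.Modules.pullbackComp j' ((𝟙 J) ^ m : J ⟶ J).left).app F).symm ≪≫
      (Scheme.Modules.pullback j').mapIso e ≪≫
      PreservesCoproduct.iso (Scheme.Modules.pullback j') _
  refine ⟨CovSS.isSlopeSemistable hdim hYd π hπk hFj hM eY CY, ?_⟩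
  -- degrees
  obtain ⟨d, hd, hdeg⟩ := CovSS.exists_deg hdim hYd π hπk
  have h1 := CovSS.deg_pull π hFj hM eY CY
  rw [hdeg n _ hFj] at h1
  have h2 := ThetaDeg.deg_pull_theta hdim hg hN hNdeg hJ hΘJ hj
  have h3 := hdeg 1 ((Scheme.Modules.pullback j.left).obj ΘJ)
    (Groth.Agent.Ega2.QCohLocal.isFinLocFreeOfRank_one_iff.2 (Fdesc.LocGen.isInvertible_pullback j.left hΘJ.1))
  rw [h2] at h3
  let D : ℤ := deg k Y (pull j' (Grpsch.PicGrp.mk ΘJ hΘJ.1))
  have h4 : Curv2.deg k Y M 1 = a * D := by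
    rw [← deg_mk k Y hYd hM]
    have h5 : Grpsch.PicGrp.mk M hM = pull j' (Grpsch.PicGrp.mk ΘJ hΘJ.1) ^ a := by
      rw [← map_pow, ← mk_tensorPow hΘJ.1 a, pull_mk]
    rw [h5, deg_pow hYcrv]
  have h6 : pull ((𝟙 J) ^ m : J ⟶ J).left (Grpsch.PicGrp.mk ΘJ hΘJ.1) = Grpsch.PicGrp.mk ΘJ hΘJ.1 ^ (m ^ 2) := by
    have h7 : pl (𝟙 J)⁻¹ (Grpsch.PicGrp.mk ΘJ hΘJ.1) = Grpsch.PicGrp.mk ΘJ hΘJ.1 := by
      rw [Grpsch.MulFin.inv_id_eq]
      exact (pull_mk _ _).trans ((mk_eq_iff _ _).2 hsym)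
    have h8 := pl_pow_of_symm (Grpsch.PicGrp.mk ΘJ hΘJ.1) (𝟙 J) h7 m
    have h9 : pl (𝟙 J) (Grpsch.PicGrp.mk ΘJ hΘJ.1) = Grpsch.PicGrp.mk ΘJ hΘJ.1 := pull_id _
    rwa [h9] at h8
  have h9 : Curv2.deg k Y ((Scheme.Modules.pullback π).obj ((Scheme.Modules.pullback j.left).obj ΘJ)) 1 =
      (m : ℤ) ^ 2 * D := by
    rw [← deg_mk k Y hYd (Fdesc.LocGen.isInvertible_pullback π (Fdesc.LocGen.isInvertible_pullback j.left hΘJ.1)),
      ← pull_mk π (Fdesc.LocGen.isInvertible_pullback j.left hΘJ.1), ← pull_mk j.left hΘJ.1, ← pull_comp, ← hcomm,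
      pull_comp, h6, map_pow, deg_pow hYcrv]
    push_cast
    rfl
  rw [h9] at h3
  rw [h4] at h1
  have hd' : (d : ℤ) ≠ 0 := by exact_mod_cast hd.ne'
  apply mul_left_cancel₀ hd'
  calc (d : ℤ) * (Curv2.deg k X ((Scheme.Modules.pullback j.left).obj F) n * (m : ℤ) ^ 2)
      = (d * Curv2.deg k X ((Scheme.Modules.pullback j.left).obj F) n) * (m : ℤ) ^ 2 := by ring
    _ = n * a * ((m : ℤ) ^ 2 * D) := by rw [h1]; ring
    _ = d * (n * a * g) := by rw [h3]; ring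

end main

/-- The numerical step: `deg · (r m)² = n · (m³ r) · g` gives `deg · r = g m n`. -/
theorem num_step {d : ℤ} {g n r m : ℕ} (hr : 1 ≤ r) (hm : 1 ≤ m)
    (h : d * ((r * m : ℕ) : ℤ) ^ 2 = (n : ℤ) * ((m ^ 3 * r : ℕ) : ℤ) * g) :
    d * (r : ℤ) = (g : ℤ) * (m : ℤ) * (n : ℤ) := by
  have hne : (r : ℤ) * (m : ℤ) ^ 2 ≠ 0 := by positivity
  apply mul_left_cancel₀ hne
  push_cast at h
  linear_combination h

end K442.Curve
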