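import Groth.Agent.BunMod.K442.Curve
import Groth.Agent.BunMod.K242.FMFinal
import Groth.Agent.BunMod.K596.F1
import Groth.Agent.BunMod.K596.JB
import Groth.Agent.BunMod.K527.SymTheta

/-!
# Rows S16927 and S16928 from the structure theorem (helper442)

`rows`: `F = R^g p_{2*}(p_1^* (E_{m,r})^∨ ⊗ P)`; `j^* F` is finite locally free of rank `n = h^0(M, Θ^r)`,
slope-semistable, and `deg j^* F · r = g m n`, from the data of the rows and `Nonempty (Str m d₂ Θ₂ ΘJ)`.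
-/

set_option autoImplicit false
universe u
open CategoryTheory CategoryTheory.Limits AlgebraicGeometry MonoidalCategory CartesianMonoidalCategory MonObj
open Groth.Agent Groth.Agent.BunMod.K596

namespace K442.Rows

/-- **Rows S16927 and S16928, modulo the structure theorem.** -/
theorem rows (k : Type u) [Field k] [IsAlgClosed k] [CharZero k]
    (X : Scheme.{u}) [X.Over (Spec (CommRingCat.of k))]
    [IsProper (X ↘ Spec (CommRingCat.of k))] [Smooth (X ↘ Spec (CommRingCat.of k))]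
    [GeometricallyConnected (X ↘ Spec (CommRingCat.of k))] (hdim : topologicalKrullDim ↥X = 1)
    (g : ℕ) (hg : Curv2.genus k X = g) (hg1 : 1 ≤ g)
    (r m : ℕ) (hr : 1 ≤ r) (hm : 1 ≤ m) (N : X.Modules) (hN : PicF.IsInvertible N)
    (hNdeg : Curv2.deg k X N 1 = (g : ℤ) - 1)
    (hNth : Nonempty (CohB1.tensorMod N N ≅ Omega.sheaf (X ↘ Spec (CommRingCat.of k))))
    (J : Over (Spec (CommRingCat.of k))) [GrpObj J] [IsCommMonObj J]
    (ψ : (ModFun.PicDeg (X ↘ Spec (CommRingCat.of k)) 0).Hom ⊤ J)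
    (hJ : Jac.IsJacobian (X ↘ Spec (CommRingCat.of k)) ⊤ J ψ)
    (ΘJ : J.left.Modules) (hΘJ : Jac.IsThetaLB (X ↘ Spec (CommRingCat.of k)) 0 ψ N ΘJ)
    (φJ : AgPol.DualMap J J) (hsd : Jac.IsSelfDual Scheme.fppfPrecoverage J φJ ΘJ)
    (P : (pullback J.hom J.hom).Modules) (hP : PicF.IsInvertible P) (hPP : AbDual.IsPoincareCl J J φJ (PicF.cl P))
    [HasInjectiveResolutions (pullback J.hom J.hom).Modules]
    (M₂ : Over (Spec (CommRingCat.of k))) (Θ₂ : M₂.left.Modules) (hΘ₂ : PicF.IsInvertible Θ₂)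
    (d₂ : M₂ ⟶ J) (hstr : Nonempty (Str m d₂ Θ₂ ΘJ))
    (j : Over.mk (X ↘ Spec (CommRingCat.of k)) ⟶ J) (hj : Jac.IsAbelJacobi (X ↘ Spec (CommRingCat.of k)) 0 ψ j) :
    ∃ n : ℕ, FlatMod.IsFinLocFreeOfRank n ((Scheme.Modules.pullback j.left).obj
        ((Coh.Rpush (pullback.snd J.hom J.hom) g).obj
        (CohB1.tensorMod ((Scheme.Modules.pullback (pullback.fst J.hom J.hom)).obj
          (RefHull.dual ((Scheme.Modules.pushforward d₂.left).obj (CohB1.tensorPow Θ₂ r)))) P))) ∧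
      ModFun.IsSlopeSemistable k X ((Scheme.Modules.pullback j.left).obj
        ((Coh.Rpush (pullback.snd J.hom J.hom) g).obj
        (CohB1.tensorMod ((Scheme.Modules.pullback (pullback.fst J.hom J.hom)).obj
          (RefHull.dual ((Scheme.Modules.pushforward d₂.left).obj (CohB1.tensorPow Θ₂ r)))) P))) n ∧
      (n : ℤ) = (@Module.finrank k (Coh.HH M₂.left (CohB1.tensorPow Θ₂ r) 0) _ _
        (@Coh.moduleOver k _ M₂.left ⟨M₂.hom⟩ (CohB1.tensorPow Θ₂ r) 0) : ℤ) ∧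
      Curv2.deg k X ((Scheme.Modules.pullback j.left).obj
        ((Coh.Rpush (pullback.snd J.hom J.hom) g).obj
        (CohB1.tensorMod ((Scheme.Modules.pullback (pullback.fst J.hom J.hom)).obj
          (RefHull.dual ((Scheme.Modules.pushforward d₂.left).obj (CohB1.tensorPow Θ₂ r)))) P))) n * (r : ℤ) =
            (g : ℤ) * (m : ℤ) * (n : ℤ) := by
  obtain ⟨S⟩ := hstr
  have hPJ : PPAV g J ΘJ := JB.ppav k X hdim g hg hg1 N hN hNdeg J ψ hJ ΘJ hΘJ
  have hs : Sym J ΘJ := K527.SymTheta.sym k X hdim g hg hg1 N hN hNdeg hNth J ψ hJ ΘJ hΘJ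
  have hV := F1.verD_of_str hPJ hΘ₂ hm S r
  obtain ⟨n, hn, hF, e⟩ := K242.FMFinal.fm_of_verD hPJ hs φJ hsd P hP hPP hr hm hV
  obtain ⟨h1, h2, h3⟩ := K442.Curve.main hdim hg hN hNdeg hJ hΘJ hs hj hF (Nat.mul_pos hr hm) e
  refine ⟨n, h1, h2, ?_, ?_⟩
  · rw [hn, F1.finrank_push]
  · exact K442.Curve.num_step hr hm h3

end K442.Rows
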