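import Groth.Agent.VBCurve.K705.Setup
import Groth.Agent.VBCurve.K703.Stab
import Groth.Agent.VBCurve.K708.Coprod

/-!
# Sums of copies of an invertible module on a curve are semistable (helper442)

`ss_sum`: `M` invertible on a regular proper integral curve: `∐_{Fin n} M` is finite locally free, of generic rank `n`
and degree `n · deg M`, and semistable.
-/

set_option autoImplicit false
universe u

open CategoryTheory CategoryTheory.Limits AlgebraicGeometry TopologicalSpace

namespace K442.SumSS

open Groth.Agent.VarietyA.DegRank K707.Base K707.Deg K707.Slope K707.Semi K708.Coprod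

section split

variable {C : Type*} [Category* C] [Abelian C] (M : C) (n : ℕ)

/-- The inclusion of the first `n` copies. -/
noncomputable def inc : (∐ fun _ : Fin n => M) ⟶ ∐ fun _ : Fin (n + 1) => M :=
  Sigma.desc (fun i : Fin n => Sigma.ι (fun _ : Fin (n + 1) => M) i.castSucc)

/-- The projection to the first `n` copies. -/
noncomputable def ret : (∐ fun _ : Fin (n + 1) => M) ⟶ ∐ fun _ : Fin n => M :=
  Sigma.desc (Fin.lastCases (motive := fun _ => M ⟶ ∐ fun _ : Fin n => M) 0
    (fun i => Sigma.ι (fun _ : Fin n => M) i))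

theorem ι_inc (i : Fin n) : Sigma.ι (fun _ : Fin n => M) i ≫ inc M n =
    Sigma.ι (fun _ : Fin (n + 1) => M) i.castSucc := Sigma.ι_desc _ _

theorem ι_ret_castSucc (i : Fin n) : Sigma.ι (fun _ : Fin (n + 1) => M) i.castSucc ≫ ret M n =
    Sigma.ι (fun _ : Fin n => M) i := by
  refine (Sigma.ι_desc _ _).trans ?_
  simp

theorem ι_ret_last : Sigma.ι (fun _ : Fin (n + 1) => M) (Fin.last n) ≫ ret M n = 0 := by
  refine (Sigma.ι_desc _ _).trans ?_
  simp

theorem inc_ret : inc M n ≫ ret M n = 𝟙 _ := by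
  apply Sigma.hom_ext
  intro i
  rw [← Category.assoc, ι_inc, ι_ret_castSucc, Category.comp_id]

theorem inc_proj : inc M n ≫ proj (fun _ : Fin (n + 1) => M) (Fin.last n) = 0 := by
  apply Sigma.hom_ext
  intro i
  rw [← Category.assoc, ι_inc, comp_zero]
  exact ι_proj_ne (fun _ : Fin (n + 1) => M) (Fin.castSucc_lt_last i).ne

theorem ret_inc_add : ret M n ≫ inc M n + proj (fun _ : Fin (n + 1) => M) (Fin.last n) ≫
    Sigma.ι (fun _ : Fin (n + 1) => M) (Fin.last n) = 𝟙 _ := by
  apply Sigma.hom_ext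
  intro i
  rw [Preadditive.comp_add, Category.comp_id]
  refine Fin.lastCases ?_ (fun i => ?_) i
  · rw [← Category.assoc, ι_ret_last, zero_comp, zero_add, ← Category.assoc, ι_proj_self, Category.id_comp]
  · rw [← Category.assoc, ι_ret_castSucc, ι_inc, ← Category.assoc,
      ι_proj_ne (fun _ : Fin (n + 1) => M) (Fin.castSucc_lt_last i).ne, zero_comp, add_zero]

/-- `∐_{Fin n} M ⟶ ∐_{Fin (n+1)} M ⟶ M`. -/
noncomputable def seq : ShortComplex C :=
  ShortComplex.mk (inc M n) (proj (fun _ : Fin (n + 1) => M) (Fin.last n)) (inc_proj M n)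

/-- The sequence splits. -/
noncomputable def split : (seq M n).Splitting where
  r := ret M n
  s := Sigma.ι (fun _ : Fin (n + 1) => M) (Fin.last n)
  f_r := inc_ret M n
  s_g := ι_proj_self (fun _ : Fin (n + 1) => M) (Fin.last n)
  id := ret_inc_add M n

theorem shortExact : (seq M n).ShortExact := (split M n).shortExact

end split

variable {k : Type u} [Field k] {X : Scheme.{u}} [X.Over (Spec (CommRingCat.of k))]
  [IsIntegral X] [IsProper (X ↘ (Spec (CommRingCat.of k)))]

omit [IsIntegral X] in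
theorem isZero_sum (M : X.Modules) : IsZero (∐ fun _ : Fin 0 => M) := by
  rw [IsZero.iff_id_eq_zero]
  apply Sigma.hom_ext
  exact fun i => i.elim0

/-- Sums of copies of an invertible module. -/
theorem ss_sum (C : Crv k X) {M : X.Modules} (hM : PicF.IsInvertible M) (n : ℕ) :
    FlatMod.IsFinLocFree (∐ fun _ : Fin n => M) ∧ rk (∐ fun _ : Fin n => M) = n ∧
      dg k (∐ fun _ : Fin n => M) = n * Curv2.deg k X M 1 ∧ SS k (∐ fun _ : Fin n => M) := by
  have hMv := K703.Stab.vb_of_inv hM
  have hv : ∀ n : ℕ, FlatMod.IsFinLocFree (∐ fun _ : Fin n => M) :=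
    fun n => isFinLocFree_coproduct _ fun _ => hMv
  induction n with
  | zero =>
    have h0 := isZero_sum M
    refine ⟨hv 0, rk_of_isZero h0, ?_, ?_⟩
    · rw [dg_of_isZero h0]; simp
    · intro F i hi hF
      have hF0 : IsZero F := by
        rw [IsZero.iff_id_eq_zero, ← cancel_mono i]
        exact h0.eq_of_tgt _ _
      rw [dg_of_isZero hF0, rk_of_isZero h0, dg_of_isZero h0]
      simp
  | succ n ih =>
    obtain ⟨-, h1, h2, h3⟩ := ih
    have hS := shortExact M n
    have e1 : rk (∐ fun _ : Fin (n + 1) => M) = n + 1 := by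
      have h4 := rk_add' k _ hS (coh_of_vb (hv (n + 1)))
      change rk (∐ fun _ : Fin (n + 1) => M) = rk (∐ fun _ : Fin n => M) + rk M at h4
      rw [h4, h1, K703.Stab.rk_of_inv hM]
    have e2 : dg k (∐ fun _ : Fin (n + 1) => M) = (n + 1) * Curv2.deg k X M 1 := by
      have h4 := dg_add k _ hS (coh_of_vb (hv n)) (coh_of_vb (hv (n + 1))) (coh_of_vb hMv)
      change dg k (∐ fun _ : Fin (n + 1) => M) = dg k (∐ fun _ : Fin n => M) + dg k M at h4
      rw [h4, h2, K703.Stab.dg_of_inv hM]
      ring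
    refine ⟨hv (n + 1), e1, by rw [e2]; push_cast; ring, ?_⟩
    rcases Nat.eq_zero_or_pos n with rfl | hn
    · intro F i hi hF
      have hiso : IsIso (seq M 0).g := by
        have := hS.epi_g
        have h5 : Mono (seq M 0).g := by
          rw [Preadditive.mono_iff_cancel_zero]
          intro P u hu
          have := hS.mono_f
          obtain ⟨l, hl⟩ := hS.exact.lift' u hu
          have hl0 : l = 0 := (isZero_sum M).eq_of_tgt l 0
          rw [← hl, hl0]
          exact zero_comp
        exact isIso_of_mono_of_epi _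
      let e : (∐ fun _ : Fin (0 + 1) => M) ≅ M := @asIso _ _ _ _ (seq M 0).g hiso
      have h7 := K703.Stab.ss_of_inv C hM F (i ≫ e.hom) (mono_comp _ _) hF
      rwa [← rk_iso e, ← dg_iso k e] at h7
    · have h5 : (rk (∐ fun _ : Fin (n + 1) => M) : ℤ) = n + 1 := by rw [e1]; push_cast; rfl
      refine K705.Setup.ss_ext C (seq M n) hS (hv n) (hv (n + 1)) hMv ?_ ?_ ?_ ?_ h3 (K703.Stab.ss_of_inv C hM)
      · change 0 < rk (∐ fun _ : Fin n => M)
        rw [h1]; exact hn
      · change 0 < rk M
        rw [K703.Stab.rk_of_inv hM]; exact one_pos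
      · change dg k (∐ fun _ : Fin n => M) * (rk (∐ fun _ : Fin (n + 1) => M) : ℤ) =
          dg k (∐ fun _ : Fin (n + 1) => M) * (rk (∐ fun _ : Fin n => M) : ℤ)
        rw [h5, e2, h2, h1]; ring
      · change dg k M * (rk (∐ fun _ : Fin (n + 1) => M) : ℤ) = dg k (∐ fun _ : Fin (n + 1) => M) * (rk M : ℤ)
        rw [h5, e2, K703.Stab.dg_of_inv hM, K703.Stab.rk_of_inv hM]; push_cast; ring

end K442.SumSS
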